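import Groth.Prelude.Def_HTor
import Mathlib.Algebra.Homology.HomologySequence
import Mathlib.Algebra.Homology.ShortComplex.Ab
import Mathlib.Algebra.Category.Grp.Abelian

/-!
# The filtration of a resolution by short exact sequences of complexes

For short exact sequences of complexes `0 → Z p → C p → Z (p+1) → 0` the iterated connecting maps
filter the cohomology of `Z 0`; the graded pieces are subquotients of the cohomology of `p ↦ H(C p)`.
-/

set_option autoImplicit false
set_option linter.style.haveILetI false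
set_option maxHeartbeats 1000000

universe u

open CategoryTheory CategoryTheory.Limits

noncomputable section

namespace CechFiltLib

variable {Z C : ℕ → CochainComplex AddCommGrpCat.{u} ℤ} (i : ∀ p, Z p ⟶ C p) (π : ∀ p, C p ⟶ Z (p + 1))
  (w : ∀ p, i p ≫ π p = 0) (hS : ∀ p, (ShortComplex.mk (i p) (π p) (w p)).ShortExact)

/-- The map induced on cohomology, as a linear map. -/
abbrev hl {K L : CochainComplex AddCommGrpCat.{u} ℤ} (φ : K ⟶ L) (m : ℤ) :
    K.homology m →ₗ[ℤ] L.homology m :=
  (HomologicalComplex.homologyMap φ m).hom.toIntLinearMap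

include hS

/-- The connecting map. -/
def dl (p : ℕ) (m m' : ℤ) (h : m + 1 = m') : (Z (p + 1)).homology m →ₗ[ℤ] (Z p).homology m' :=
  ((hS p).δ m m' h).hom.toIntLinearMap

theorem ker_hl_i (p : ℕ) (m m' : ℤ) (h : m + 1 = m') :
    LinearMap.ker (hl (i p) m') = LinearMap.range (dl i π w hS p m m' h) := by
  refine le_antisymm (fun x hx => ?_) ?_
  · obtain ⟨y, hy⟩ := (ShortComplex.ab_exact_iff _).1 ((hS p).homology_exact₁ m m' h) x hx
    exact ⟨y, hy⟩
  · rintro _ ⟨y, rfl⟩
    exact congr($((hS p).δ_comp m m' h) y)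

theorem dl_hl_π (p : ℕ) (m m' : ℤ) (h : m + 1 = m') (z : (C p).homology m) :
    dl i π w hS p m m' h (hl (π p) m z) = 0 :=
  congr($((hS p).comp_δ m m' h) z)

/-- The iterated connecting map. -/
def τ : ∀ (p : ℕ) (m n : ℤ), m + p = n → ((Z p).homology m →ₗ[ℤ] (Z 0).homology n)
  | 0, m, n, h => (eqToHom (by rw [show m = n by simpa using h]) : (Z 0).homology m ⟶ (Z 0).homology n).hom.toIntLinearMap
  | p + 1, m, n, h => (τ p (m + 1) n (by push_cast at h; omega)).comp (dl i π w hS p m (m + 1) rfl)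

theorem τ_zero (n : ℤ) (h : n + (0 : ℕ) = n) : τ i π w hS 0 n n h = LinearMap.id := rfl

theorem τ_succ (p : ℕ) (m m' n : ℤ) (hm : m + 1 = m') (h : m + (p + 1 : ℕ) = n) (h' : m' + p = n)
    (x : (Z (p + 1)).homology m) :
    τ i π w hS (p + 1) m n h x = τ i π w hS p m' n h' (dl i π w hS p m m' hm x) := by
  subst hm
  rfl

/-- The filtration. -/
def G (n : ℤ) (p : ℕ) : Submodule ℤ ((Z 0).homology n) :=
  LinearMap.range (τ i π w hS p (n - p) n (by omega))

theorem antitone_G (n : ℤ) : Antitone (G i π w hS n) := by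
  refine antitone_nat_of_succ_le fun p => ?_
  rintro _ ⟨x, rfl⟩
  exact ⟨_, (τ_succ i π w hS p _ (n - p) n (by push_cast; omega) _ (by omega) x).symm⟩

theorem G_zero (n : ℤ) : G i π w hS n 0 = ⊤ := by
  rw [eq_top_iff]
  intro x _
  have key : ∀ (m : ℤ) (h : m + (0 : ℕ) = n), ∃ y, τ i π w hS 0 m n h y = x := fun m h => by
    obtain rfl : m = n := by simpa using h
    exact ⟨x, rfl⟩
  exact key _ _

theorem G_one (n : ℤ) : G i π w hS n 1 = LinearMap.ker (hl (i 0) n) := by
  rw [ker_hl_i i π w hS 0 (n - (1 : ℕ)) n (by push_cast; omega)]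
  have e : ∀ x, τ i π w hS 1 (n - (1 : ℕ)) n (by omega) x =
      dl i π w hS 0 (n - (1 : ℕ)) n (by push_cast; omega) x := fun x =>
    (τ_succ i π w hS 0 _ n n (by push_cast; omega) _ (by omega) x).trans
      (LinearMap.congr_fun (τ_zero i π w hS n _) _)
  ext x
  exact ⟨fun ⟨y, hy⟩ => ⟨y, (e y).symm.trans hy⟩, fun ⟨y, hy⟩ => ⟨y, (e y).trans hy⟩⟩

theorem G_eq_bot (n : ℤ) (p : ℕ) (h : Subsingleton ((Z p).homology (n - p))) : G i π w hS n p = ⊥ := by
  rw [eq_bot_iff]
  rintro _ ⟨x, rfl⟩
  rw [Subsingleton.elim x 0, map_zero]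
  exact Submodule.zero_mem _

omit hS in
theorem exists_cls (E : CochainComplex AddCommGrpCat.{u} ℕ) (p : ℕ) {L : AddCommGrpCat.{u}}
    (ψ : L →ₗ[ℤ] E.X p) (hψ : ∀ x, E.d p (p + 1) (ψ x) = 0) :
    ∃ φ : L →ₗ[ℤ] E.homology p,
      (∀ x, φ x = 0 → ∃ b : E.X ((ComplexShape.up ℕ).prev p), E.d _ p b = ψ x) ∧
      ∀ x, ψ x = 0 → φ x = 0 := by
  let k : L ⟶ E.X p := AddCommGrpCat.ofHom ψ.toAddMonoidHom
  have hk : k ≫ E.d p (p + 1) = 0 := by
    ext x
    exact hψ x
  refine ⟨(E.liftCycles k (p + 1) (by simp) hk ≫ E.homologyπ p).hom.toIntLinearMap, fun x hx => ?_, fun x hx => ?_⟩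
  rotate_left
  · have : E.liftCycles k (p + 1) (by simp) hk x = 0 := by
      apply (AddCommGrpCat.mono_iff_injective (E.iCycles p)).1 inferInstance
      rw [map_zero, ← ConcreteCategory.comp_apply, E.liftCycles_i]
      exact hx
    show (E.homologyπ p) (E.liftCycles k (p + 1) (by simp) hk x) = 0
    rw [this, map_zero]
  have he : (ShortComplex.mk (E.toCycles ((ComplexShape.up ℕ).prev p) p) (E.homologyπ p)
      (E.toCycles_comp_homologyπ _ p)).Exact :=
    ShortComplex.exact_of_g_is_cokernel _ (E.homologyIsCokernel _ p rfl)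
  obtain ⟨b, hb⟩ := (ShortComplex.ab_exact_iff _).1 he (E.liftCycles k (p + 1) (by simp) hk x) hx
  refine ⟨b, ?_⟩
  rw [← E.toCycles_i, ConcreteCategory.comp_apply]
  refine (congrArg (E.iCycles p) hb).trans ?_
  rw [← ConcreteCategory.comp_apply, E.liftCycles_i]
  rfl

/-- The graded pieces are subquotients of the cohomology of `E`. -/
theorem isSubquotient (n : ℤ) (p : ℕ) (E : CochainComplex AddCommGrpCat.{u} ℕ) (m : ℤ) (hm : m + p = n)
    (e : ∀ q, E.X q ≅ (C q).homology m)
    (he : ∀ q, (e q).hom ≫ HomologicalComplex.homologyMap (π q ≫ i (q + 1)) m = E.d q (q + 1) ≫ (e (q + 1)).hom) :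
    HTor.IsSubquotient ℤ (HTor.grDesc (G i π w hS n) p) (E.homology p) := by
  obtain rfl : m = n - p := by omega
  let L := (Z p).homology (n - p)
  let g : L →ₗ[ℤ] (C p).homology (n - p) := hl (i p) (n - p)
  let t : L →ₗ[ℤ] (Z 0).homology n := τ i π w hS p (n - p) n (by omega)
  let ψ : L →ₗ[ℤ] E.X p := (e p).inv.hom.toIntLinearMap.comp g
  have hψ0 : ∀ x, E.d p (p + 1) (ψ x) = 0 := fun x => by
    apply ((AddCommGrpCat.mono_iff_injective (e (p + 1)).hom).1 inferInstance)
    rw [← ConcreteCategory.comp_apply, ← he p, map_zero, ConcreteCategory.comp_apply]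
    refine (congrArg (HomologicalComplex.homologyMap (π p ≫ i (p + 1)) (n - p))
      (congr($((e p).inv_hom_id) (g x)))).trans ?_
    show (HomologicalComplex.homologyMap (i p) (n - p) ≫
      HomologicalComplex.homologyMap (π p ≫ i (p + 1)) (n - p)) x = 0
    rw [← HomologicalComplex.homologyMap_comp, reassoc_of% (w p), zero_comp, HomologicalComplex.homologyMap_zero]
    rfl
  have hgψ : ∀ x, ψ x = 0 → g x = 0 := fun x hx => by
    refine (congr($((e p).inv_hom_id) (g x))).symm.trans ?_
    exact (congrArg (e p).hom hx).trans (map_zero _)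
  obtain ⟨φ, hφ, hφ0⟩ := exists_cls E p (L := (Z p).homology (n - p)) ψ hψ0
  have hker : LinearMap.ker φ ≤ LinearMap.ker g ⊔ LinearMap.ker t := fun x hx => by
    have hb' := hφ x hx
    obtain _ | q := p
    · obtain ⟨b, hb⟩ := hb'
      refine Submodule.mem_sup_left (hgψ x ?_)
      rw [← hb, E.shape _ _ (by simp)]
      rfl
    · rw [CochainComplex.prev_nat_succ] at hb'
      obtain ⟨b, hb⟩ := hb'
      let z : (C q).homology (n - (q + 1 : ℕ)) := (e q).hom b
      let x' : L := hl (π q) (n - (q + 1 : ℕ)) z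
      rw [← sub_add_cancel x x']
      refine add_mem (Submodule.mem_sup_left ?_) (Submodule.mem_sup_right ?_)
      · rw [LinearMap.mem_ker, map_sub, sub_eq_zero]
        refine (congr($((e (q + 1)).inv_hom_id) (g x))).symm.trans ?_
        refine (congrArg (e (q + 1)).hom hb.symm).trans ?_
        refine (congr($(he q) b)).symm.trans ?_
        show HomologicalComplex.homologyMap (π q ≫ i (q + 1)) _ z = _
        rw [HomologicalComplex.homologyMap_comp]
        rfl
      · refine (τ_succ i π w hS q _ (n - (q + 1 : ℕ) + 1) n rfl _ (by push_cast; omega) x').trans ?_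
        rw [dl_hl_π, map_zero]
  let A := LinearMap.ker g ⊔ LinearMap.ker t
  let S' : Submodule ℤ (E.homology p) := LinearMap.range φ
  let S : Submodule ℤ (E.homology p) := (LinearMap.ker t).map φ
  have hgt : ∀ (x : L), g x = 0 → t x ∈ G i π w hS n (p + 1) := fun x hx => by
    have : x ∈ LinearMap.ker (hl (i p) (n - p)) := hx
    rw [ker_hl_i i π w hS p (n - (p + 1 : ℕ)) (n - p) (by push_cast; omega)] at this
    obtain ⟨y, rfl⟩ := this
    exact ⟨y, τ_succ i π w hS p _ _ n (by push_cast; omega) _ (by omega) y⟩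
  let t' : L →ₗ[ℤ] HTor.grDesc (G i π w hS n) p := (Submodule.mkQ _).comp t.rangeRestrict
  have ht' : Function.Surjective t' :=
    (Submodule.mkQ_surjective _).comp t.surjective_rangeRestrict
  have hk1 : LinearMap.ker t' = A := by
    refine le_antisymm (fun x hx => ?_) (sup_le (fun x hx => ?_) fun x hx => ?_)
    · have hx' : t x ∈ G i π w hS n (p + 1) := ((Submodule.Quotient.mk_eq_zero _).1 (LinearMap.mem_ker.1 hx) :)
      obtain ⟨y, hy⟩ := hx'
      let y' := dl i π w hS p (n - (p + 1 : ℕ)) (n - p) (by push_cast; omega) y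
      have hy' : t y' = t x :=
        (τ_succ i π w hS p _ _ n (by push_cast; omega) (by omega) (by omega) y).symm.trans hy
      rw [← add_sub_cancel y' x]
      refine add_mem (Submodule.mem_sup_left ?_) (Submodule.mem_sup_right ?_)
      · exact (ker_hl_i i π w hS p (n - (p + 1 : ℕ)) (n - p) (by push_cast; omega)).ge ⟨y, rfl⟩
      · rw [LinearMap.mem_ker, map_sub, hy', sub_self]
    · exact (Submodule.Quotient.mk_eq_zero _).2 (hgt x hx)
    · refine (Submodule.Quotient.mk_eq_zero _).2 ?_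
      show t x ∈ G i π w hS n (p + 1)
      rw [LinearMap.mem_ker.1 hx]
      exact Submodule.zero_mem _
  let f : L →ₗ[ℤ] (↥S' ⧸ Submodule.comap S'.subtype S) := (Submodule.mkQ _).comp φ.rangeRestrict
  have hf : Function.Surjective f := (Submodule.mkQ_surjective _).comp φ.surjective_rangeRestrict
  have hgφ : ∀ x, g x = 0 → φ x ∈ S := fun x hx => by
    have : φ x = 0 := hφ0 x (by
      show (e p).inv (g x) = 0
      rw [hx, map_zero])
    rw [this]
    exact Submodule.zero_mem _
  have hk2 : LinearMap.ker f = A := by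
    refine le_antisymm (fun x hx => ?_) (sup_le (fun x hx => ?_) fun x hx => ?_)
    · obtain ⟨y, hy, hxy⟩ := (Submodule.Quotient.mk_eq_zero _).1 hx
      rw [← add_sub_cancel y x]
      refine add_mem (Submodule.mem_sup_right hy) (hker ?_)
      rw [LinearMap.mem_ker, map_sub, hxy]
      exact sub_self _
    · exact (Submodule.Quotient.mk_eq_zero _).2 (hgφ x hx)
    · exact (Submodule.Quotient.mk_eq_zero _).2 ⟨x, hx, rfl⟩
  exact ⟨S, S', LinearMap.map_le_range, ⟨(t'.quotKerEquivOfSurjective ht').symm ≪≫ₗ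
    Submodule.quotEquivOfEq _ _ (hk1.trans hk2.symm) ≪≫ₗ f.quotKerEquivOfSurjective hf⟩⟩

end CechFiltLib
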