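import Groth.Agent.CechFiltLib.Alg
import Groth.Agent.CechLib.Compare
import Groth.Agent.AbSiteDerLib.KInjPresheaf
import Groth.Agent.DerLib.Horseshoe
import Groth.Agent.S0455
import Groth.Prelude.Def_CohB1

/-!
# The filtration of hypercohomology by a covering
-/

set_option autoImplicit false
set_option linter.style.haveILetI false
set_option linter.unusedSectionVars false
set_option backward.isDefEq.respectTransparency false
set_option backward.isDefEq.respectTransparency.types false
set_option maxHeartbeats 1000000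

universe u

open CategoryTheory CategoryTheory.Limits TopologicalSpace Opposite CechLib

noncomputable section

namespace CechFiltLib

variable {X : TopCat.{u}} {ι : Type u} (U : ι → Opens X)

abbrev PSh (X : TopCat.{u}) : Type (u + 1) := (Opens X)ᵒᵖ ⥤ AddCommGrpCat.{u}

/-- Cochains in one degree. -/
abbrev Ef (p : ℕ) : PSh X ⥤ AddCommGrpCat.{u} :=
  cechComplexFunctor U ⋙ HomologicalComplex.eval AddCommGrpCat.{u} (ComplexShape.up ℕ) p

/-- Cocycles in one degree. -/
abbrev Zf (p : ℕ) : PSh X ⥤ AddCommGrpCat.{u} :=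
  cechComplexFunctor U ⋙ HomologicalComplex.cyclesFunctor AddCommGrpCat.{u} (ComplexShape.up ℕ) p

/-- The differential. -/
def dNT (p : ℕ) : Ef U p ⟶ Ef U (p + 1) where
  app P := ((cechComplexFunctor U).obj P).d p (p + 1)
  naturality _ _ φ := ((cechComplexFunctor U).map φ).comm p (p + 1)

/-- Cocycles are cochains. -/
def iNT (p : ℕ) : Zf U p ⟶ Ef U p where
  app P := ((cechComplexFunctor U).obj P).iCycles p
  naturality _ _ φ := HomologicalComplex.cyclesMap_i ((cechComplexFunctor U).map φ) p

/-- The differential lands in cocycles. -/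
def πNT (p : ℕ) : Ef U p ⟶ Zf U (p + 1) where
  app P := ((cechComplexFunctor U).obj P).toCycles p (p + 1)
  naturality P Q φ := by
    apply (cancel_mono (((cechComplexFunctor U).obj Q).iCycles (p + 1))).1
    rw [Category.assoc, Category.assoc, HomologicalComplex.toCycles_i]
    show _ = _ ≫ HomologicalComplex.cyclesMap _ (p + 1) ≫ _
    rw [HomologicalComplex.cyclesMap_i, HomologicalComplex.toCycles_i_assoc]
    exact ((cechComplexFunctor U).map φ).comm p (p + 1)

theorem πNT_iNT (p : ℕ) : πNT U p ≫ iNT U (p + 1) = dNT U p := by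
  ext P : 2
  exact ((cechComplexFunctor U).obj P).toCycles_i p (p + 1)

instance additive_cech : (cechComplexFunctor U (A := AddCommGrpCat.{u})).Additive where
  map_add {P Q f g} := by
    ext n : 1
    refine ConcreteCategory.hom_ext _ _ fun c => ?_
    apply (cochainEquiv U Q n).injective
    funext J
    show _ = cochainEquiv U Q n ((((cechComplexFunctor U).map f).f n + ((cechComplexFunctor U).map g).f n) c) J
    rw [cochainEquiv_map, show (((cechComplexFunctor U).map f).f n + ((cechComplexFunctor U).map g).f n) c =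
      ((cechComplexFunctor U).map f).f n c + ((cechComplexFunctor U).map g).f n c from rfl, map_add, Pi.add_apply,
      cochainEquiv_map, cochainEquiv_map]
    rfl

instance additive_Ef (p : ℕ) : (Ef U p).Additive := inferInstance

instance additive_Zf (p : ℕ) : (Zf U p).Additive where
  map_add {P Q f g} := by
    apply (cancel_mono (((cechComplexFunctor U).obj Q).iCycles p)).1
    show HomologicalComplex.cyclesMap _ p ≫ _ =
      (HomologicalComplex.cyclesMap _ p + HomologicalComplex.cyclesMap _ p) ≫ _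
    rw [Functor.map_add, Preadditive.add_comp, HomologicalComplex.cyclesMap_i, HomologicalComplex.cyclesMap_i,
      HomologicalComplex.cyclesMap_i, HomologicalComplex.add_f_apply, Preadditive.comp_add]

instance preservesHomology_Ef (p : ℕ) : (Ef U p).PreservesHomology := by
  refine Functor.preservesHomology_of_map_exact _ fun S hS => ?_
  rw [ShortComplex.ab_exact_iff]
  intro c hc
  have hV : ∀ V : (Opens X)ᵒᵖ, (S.map ((evaluation _ _).obj V)).Exact := fun V => hS.map _
  have key : ∀ J, ∃ b, S.f.app (op (cap U J)) b = cochainEquiv U S.X₂ p c J := fun J =>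
    (ShortComplex.ab_exact_iff _).1 (hV (op (cap U J))) (cochainEquiv U S.X₂ p c J) (by
      refine (cochainEquiv_map U S.g p c J).symm.trans ?_
      rw [show ((cechComplexFunctor U).map S.g).f p c = 0 from hc, map_zero]
      rfl)
  choose b hb using key
  refine ⟨(cochainEquiv U S.X₁ p).symm b, (cochainEquiv U S.X₂ p).injective (funext fun J => ?_)⟩
  refine (cochainEquiv_map U S.f p _ J).trans ?_
  rw [AddEquiv.apply_symm_apply]
  exact hb J

/-- Restrictions of a section, as a cochain. -/
def rhoP : (evaluation (Opens X)ᵒᵖ AddCommGrpCat.{u}).obj (op (⨆ i, U i)) ⟶ Ef U 0 where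
  app P := AddCommGrpCat.ofHom ((cochainEquiv U P 0).symm.toAddMonoidHom.comp
    (AddMonoidHom.pi fun J => rs P (cap_le_iSup U J)))
  naturality P Q φ := by
    refine ConcreteCategory.hom_ext _ _ fun s => ?_
    apply (cochainEquiv U Q 0).injective
    funext J
    refine Eq.trans ?_ (cochainEquiv_map U φ 0 _ J).symm
    refine (congr_fun ((cochainEquiv U Q 0).apply_symm_apply _) J).trans ?_
    refine Eq.trans ?_ (congrArg (φ.app (op (cap U J))) (congr_fun ((cochainEquiv U P 0).apply_symm_apply _) J)).symm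
    exact (NatTrans.naturality_apply φ (homOfLE (cap_le_iSup U J)).op s).symm

theorem cochainEquiv_rhoP (P : PSh X) (s : P.obj (op (⨆ i, U i))) (J : Fin 1 → ι) :
    cochainEquiv U P 0 ((rhoP U).app P s) J = rs P (cap_le_iSup U J) s :=
  congr_fun ((cochainEquiv U P 0).apply_symm_apply _) J

theorem rhoP_dNT : rhoP U ≫ dNT U 0 = 0 := by
  ext P : 2
  refine ConcreteCategory.hom_ext _ _ fun s => ?_
  apply (cochainEquiv U P 1).injective
  refine (ev_d U P 0 _).trans ?_
  funext J
  rw [dd_apply, Fin.sum_univ_two]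
  have hr : ∀ J : Fin 1 → ι,
      cochainEquiv U P 0 (((rhoP U).app P).hom' s) J = rs P (cap_le_iSup U J) s := cochainEquiv_rhoP U P s
  refine (congr_arg₂ (· + ·) (congr_arg _ ((congr_arg (rs P _) (hr _)).trans (rs_rs _ _ _ _)))
    (congr_arg _ ((congr_arg (rs P _) (hr _)).trans (rs_rs _ _ _ _)))).trans ?_
  simp

/-- Sections over the union are cocycles. -/
def thetaNT : (evaluation (Opens X)ᵒᵖ AddCommGrpCat.{u}).obj (op (⨆ i, U i)) ⟶ Zf U 0 where
  app P := ((cechComplexFunctor U).obj P).liftCycles ((rhoP U).app P) 1 (by simp) (congr_app (rhoP_dNT U) P)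
  naturality P Q φ := by
    apply (cancel_mono (((cechComplexFunctor U).obj Q).iCycles 0)).1
    rw [Category.assoc, Category.assoc, HomologicalComplex.liftCycles_i]
    show _ = _ ≫ HomologicalComplex.cyclesMap _ 0 ≫ _
    rw [HomologicalComplex.cyclesMap_i, HomologicalComplex.liftCycles_i_assoc]
    exact (rhoP U).naturality φ

theorem thetaNT_iNT : thetaNT U ≫ iNT U 0 = rhoP U := by
  ext P : 2
  exact ((cechComplexFunctor U).obj P).liftCycles_i ((rhoP U).app P) 1 (by simp) (congr_app (rhoP_dNT U) P)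

theorem isIso_theta (F : CohTop.Ab X) : IsIso ((thetaNT U).app F.obj) := by
  rw [ConcreteCategory.isIso_iff_bijective]
  exact rhoCycles_bijective U F

variable (I : CochainComplex (CohTop.Ab X) ℤ)

/-- The complex of presheaves of sections. -/
abbrev pre : CochainComplex (PSh X) ℤ :=
  ((Groth.Agent.AbSiteDerLib.Psec (Opens.grothendieckTopology X)).mapHomologicalComplex (ComplexShape.up ℤ)).obj I

/-- Cochain complexes of sections. -/
abbrev CC (p : ℕ) : CochainComplex AddCommGrpCat.{u} ℤ :=
  ((Ef U p).mapHomologicalComplex (ComplexShape.up ℤ)).obj (pre I)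

/-- Cocycle complexes of sections. -/
abbrev ZC (p : ℕ) : CochainComplex AddCommGrpCat.{u} ℤ :=
  ((Zf U p).mapHomologicalComplex (ComplexShape.up ℤ)).obj (pre I)

/-- Inclusion of cocycles. -/
abbrev iC (p : ℕ) : ZC U I p ⟶ CC U I p := (NatTrans.mapHomologicalComplex (iNT U p) _).app (pre I)

/-- The differential into cocycles. -/
abbrev πC (p : ℕ) : CC U I p ⟶ ZC U I (p + 1) := (NatTrans.mapHomologicalComplex (πNT U p) _).app (pre I)

theorem iC_πC (p : ℕ) : iC U I p ≫ πC U I p = 0 := by
  ext j : 1
  apply (cancel_mono (((cechComplexFunctor U).obj ((pre I).X j)).iCycles (p + 1))).1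
  refine Eq.trans ?_ zero_comp.symm
  show (((cechComplexFunctor U).obj ((pre I).X j)).iCycles p ≫
    ((cechComplexFunctor U).obj ((pre I).X j)).toCycles p (p + 1)) ≫ _ = 0
  rw [Category.assoc, HomologicalComplex.toCycles_i, HomologicalComplex.iCycles_d]

theorem shortExact_ZC (hI : ∀ j, Injective (I.X j)) (p : ℕ) :
    (ShortComplex.mk (iC U I p) (πC U I p) (iC_πC U I p)).ShortExact := by
  rw [HomologicalComplex.shortExact_iff_degreewise_shortExact]
  intro j
  let K := (cechComplexFunctor U).obj ((pre I).X j)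
  haveI := hI j
  haveI : TopCat.Sheaf.IsFlasque (I.X j) := QCohLib.isFlasque_of_injective (I.X j)
  have hz : IsZero (K.homology (p + 1)) := Groth.Agent.S0455.result (I.X j) U p
  have hw : K.iCycles p ≫ K.toCycles p (p + 1) = 0 := by
    rw [← cancel_mono (K.iCycles (p + 1))]
    simp
  show (ShortComplex.mk (K.iCycles p) (K.toCycles p (p + 1)) hw).ShortExact
  exact
    { exact := ShortComplex.exact_of_f_is_kernel _
        (isKernelOfComp (K.iCycles (p + 1)) _ (K.cyclesIsKernel p (p + 1) (by simp)) hw (K.toCycles_i _ _))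
      mono_f := inferInstanceAs (Mono (K.iCycles p))
      epi_g := Preadditive.epi_of_isZero_cokernel' _
        (K.homologyIsCokernel p (p + 1) (CochainComplex.prev_nat_succ p)) hz }

/-- Cohomology of sections in a product. -/
def homologyEf (p : ℕ) (m : ℤ) : (CC U I p).homology m ≅ (Ef U p).obj ((pre I).homology m) :=
  ((pre I).sc m).mapHomologyIso (Ef U p)

theorem homologyEf_d (p : ℕ) (m : ℤ) :
    HomologicalComplex.homologyMap (πC U I p ≫ iC U I (p + 1)) m ≫ (homologyEf U I (p + 1) m).hom =
      (homologyEf U I p m).hom ≫ (dNT U p).app ((pre I).homology m) := by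
  have e : πC U I p ≫ iC U I (p + 1) = (NatTrans.mapHomologicalComplex (dNT U p) _).app (pre I) := by
    rw [← πNT_iNT, NatTrans.mapHomologicalComplex_comp]
    rfl
  rw [e]
  show ShortComplex.homologyMap (((pre I).sc m).mapNatTrans (dNT U p)) ≫ _ = _
  rw [ShortComplex.homologyMap_mapNatTrans]
  simp [homologyEf]
  rfl

/-- Global sections as cocycles of degree zero. -/
abbrev thetaC : (((evaluation (Opens X)ᵒᵖ AddCommGrpCat.{u}).obj (op (⨆ i, U i))).mapHomologicalComplex
    (ComplexShape.up ℤ)).obj (pre I) ⟶ ZC U I 0 :=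
  (NatTrans.mapHomologicalComplex (thetaNT U) _).app (pre I)

theorem isIso_thetaC : IsIso (thetaC U I) := by
  haveI : ∀ j, IsIso ((thetaC U I).f j) := fun j => isIso_theta U (I.X j)
  exact HomologicalComplex.Hom.isIso_of_components _

theorem theta_iC (n : ℤ) :
    HomologicalComplex.homologyMap (thetaC U I ≫ iC U I 0) n ≫ (homologyEf U I 0 n).hom =
      (((pre I).sc n).mapHomologyIso ((evaluation (Opens X)ᵒᵖ AddCommGrpCat.{u}).obj (op (⨆ i, U i)))).hom ≫
        (rhoP U).app ((pre I).homology n) := by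
  have e : thetaC U I ≫ iC U I 0 = (NatTrans.mapHomologicalComplex (rhoP U) _).app (pre I) := by
    rw [← thetaNT_iNT, NatTrans.mapHomologicalComplex_comp]
    rfl
  rw [e]
  show ShortComplex.homologyMap (((pre I).sc n).mapNatTrans (rhoP U)) ≫ _ = _
  rw [ShortComplex.homologyMap_mapNatTrans]
  simp [homologyEf]
  rfl

variable [HasDerivedCategory.{u} (CohTop.Ab X)]

theorem exists_filtration (K : CochainComplex (CohTop.Ab X) ℤ) (a : ℤ) (ha : ∀ i : ℤ, i < a → IsZero (K.X i)) (n : ℤ) :
    ∃ (N : ℕ) (G : ℕ → Submodule ℤ (CohCx.HDU (DerivedCategory.Q.obj K) n (⨆ i, U i))),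
      Antitone G ∧ G 0 = ⊤ ∧ G N = ⊥ ∧
      G 1 = ⨅ i, AddSubgroup.toIntSubmodule
        (CohCx.HDUres (DerivedCategory.Q.obj K) n (homOfLE (le_iSup U i) : U i ⟶ (⨆ i, U i))).ker ∧
      ∀ p : ℕ, HTor.IsSubquotient ℤ (HTor.grDesc G p)
        (CohB1.cechHTop U (CohCx.HDUPresheaf (DerivedCategory.Q.obj K) (n - p)) p) := by
  haveI : K.IsStrictlyGE a := (CochainComplex.isStrictlyGE_iff _ _).2 ha
  obtain ⟨I, α, hIge, hI, -, hα⟩ := Groth.Agent.DerLib.Horseshoe.exists_injective_resolution K a
  haveI := hIge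
  haveI := hα
  haveI : I.IsKInjective := CochainComplex.isKInjective_of_injective I a
  let φ (m : ℤ) : (pre I).homology m ≅ CohCx.HDUPresheaf (DerivedCategory.Q.obj K) m :=
    Groth.Agent.AbSiteDerLib.hduPresheafIso I m ≪≫
      Functor.isoWhiskerLeft _ (preadditiveYoneda.mapIso
        ((shiftFunctor (DerivedCategory (CohTop.Ab X)) m).mapIso (asIso (DerivedCategory.Q.map α)).symm))
  haveI := isIso_thetaC U I
  let ε₁ : (ZC U I 0).homology n ≅ (CohCx.HDUPresheaf (DerivedCategory.Q.obj K) n).obj (op (⨆ i, U i)) :=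
    (HomologicalComplex.homologyFunctor _ _ n).mapIso (asIso (thetaC U I)).symm ≪≫
      ((pre I).sc n).mapHomologyIso ((evaluation (Opens X)ᵒᵖ AddCommGrpCat.{u}).obj (op (⨆ i, U i))) ≪≫
        ((evaluation (Opens X)ᵒᵖ AddCommGrpCat.{u}).obj (op (⨆ i, U i))).mapIso (φ n)
  let ε : (ZC U I 0).homology n ≃ₗ[ℤ] CohCx.HDU (DerivedCategory.Q.obj K) n (⨆ i, U i) :=
    ε₁.addCommGroupIsoToAddEquiv.toIntLinearEquiv
  let i := iC U I
  let π := πC U I
  let hS := shortExact_ZC U I hI
  let N : ℕ := (n - a + 1).toNat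
  refine ⟨N, fun p => (G i π (iC_πC U I) hS n p).map ε.toLinearMap,
    fun p q h => Submodule.map_mono (antitone_G i π (iC_πC U I) hS n h), ?_, ?_, ?_, fun p => ?_⟩
  · show (G i π (iC_πC U I) hS n 0).map ε.toLinearMap = ⊤
    rw [G_zero, Submodule.map_top, LinearMap.range_eq_top]
    exact ε.surjective
  · show (G i π (iC_πC U I) hS n N).map ε.toLinearMap = ⊥
    rw [G_eq_bot i π (iC_πC U I) hS n N, Submodule.map_bot]
    refine AddCommGrpCat.subsingleton_of_isZero ?_
    rw [← HomologicalComplex.exactAt_iff_isZero_homology]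
    refine ShortComplex.exact_of_isZero_X₂ _ ?_
    exact Functor.map_isZero (Zf U N) (Functor.map_isZero (Groth.Agent.AbSiteDerLib.Psec (Opens.grothendieckTopology X)) (CochainComplex.isZero_of_isStrictlyGE I a (n - N) (by simp only [N]; omega)))
  · show (G i π (iC_πC U I) hS n 1).map ε.toLinearMap = _
    rw [G_one]
    ext y
    obtain ⟨x, rfl⟩ := ε.surjective y
    rw [Submodule.mem_iInf]
    refine Iff.trans (b := x ∈ LinearMap.ker (hl (i 0) n))
      ⟨fun ⟨z, hz, e⟩ => ε.injective e ▸ hz, fun hx => ⟨x, hx, rfl⟩⟩ ?_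
    have key : (Ef U 0).map (φ n).hom ((homologyEf U I 0 n).hom (hl (i 0) n x)) =
        (rhoP U).app (CohCx.HDUPresheaf (DerivedCategory.Q.obj K) n) (ε x) := by
      obtain ⟨x', rfl⟩ : ∃ x', HomologicalComplex.homologyMap (thetaC U I) n x' = x :=
        ((ConcreteCategory.isIso_iff_bijective _).1 inferInstance).2 x
      have h1 := congr($(theta_iC U I n) x')
      rw [HomologicalComplex.homologyMap_comp] at h1
      refine (congrArg ((Ef U 0).map (φ n).hom) h1).trans ?_
      refine (NatTrans.naturality_apply (rhoP U) (φ n).hom _).symm.trans ?_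
      refine congrArg ((rhoP U).app _) ?_
      show _ = ε₁.hom (HomologicalComplex.homologyMap (thetaC U I) n x')
      rw [← ConcreteCategory.comp_apply]
      have hh : (((pre I).sc n).mapHomologyIso ((evaluation (Opens X)ᵒᵖ AddCommGrpCat.{u}).obj (op (⨆ i, U i)))).hom ≫
          ((evaluation (Opens X)ᵒᵖ AddCommGrpCat.{u}).obj (op (⨆ i, U i))).map (φ n).hom =
          HomologicalComplex.homologyMap (thetaC U I) n ≫ ε₁.hom := by
        show _ = HomologicalComplex.homologyMap (thetaC U I) n ≫
          HomologicalComplex.homologyMap (inv (thetaC U I)) n ≫ _ ≫ _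
        rw [← HomologicalComplex.homologyMap_comp_assoc, IsIso.hom_inv_id, HomologicalComplex.homologyMap_id,
          Category.id_comp]
        rfl
      exact congr($hh x')
    constructor
    · intro hx i₀
      have h0 : (rhoP U).app (CohCx.HDUPresheaf (DerivedCategory.Q.obj K) n) (ε x) = 0 := by
        rw [← key, LinearMap.mem_ker.1 hx, map_zero, map_zero]
      have h2 := cochainEquiv_rhoP U (CohCx.HDUPresheaf (DerivedCategory.Q.obj K) n) (ε x) (fun _ => i₀)
      rw [h0, map_zero] at h2
      have hcap : U i₀ ≤ cap U (fun _ : Fin 1 => i₀) := (le_cap_iff U).mpr fun _ => le_rfl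
      have h3 := congrArg (rs (CohCx.HDUPresheaf (DerivedCategory.Q.obj K) n) hcap) h2.symm
      rw [rs_rs, Pi.zero_apply, map_zero] at h3
      exact h3
    · intro hy
      have h0 : (rhoP U).app (CohCx.HDUPresheaf (DerivedCategory.Q.obj K) n) (ε x) = 0 := by
        apply (cochainEquiv U _ 0).injective
        funext J
        rw [cochainEquiv_rhoP U (CohCx.HDUPresheaf (DerivedCategory.Q.obj K) n), map_zero, Pi.zero_apply]
        refine (rs_rs _ (le_iSup U (J 0)) (cap_le U J 0) _).symm.trans ?_
        rw [show rs (CohCx.HDUPresheaf (DerivedCategory.Q.obj K) n) (le_iSup U (J 0)) (ε x) = 0 from hy (J 0),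
          map_zero]
      rw [LinearMap.mem_ker]
      apply ((AddCommGrpCat.mono_iff_injective (homologyEf U I 0 n).hom).1 inferInstance)
      apply ((AddCommGrpCat.mono_iff_injective ((Ef U 0).map (φ n).hom)).1 inferInstance)
      rw [key, h0, map_zero, map_zero]
  · let E := (cechComplexFunctor U).obj (CohCx.HDUPresheaf (DerivedCategory.Q.obj K) (n - p))
    have hsub := isSubquotient i π (iC_πC U I) hS n p E (n - p) (by omega)
      (fun q => (Ef U q).mapIso (φ (n - p)).symm ≪≫ (homologyEf U I q (n - p)).symm) (fun q => by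
        simp only [Iso.trans_hom, Iso.symm_hom, Functor.mapIso_hom, Category.assoc]
        rw [← cancel_mono (homologyEf U I (q + 1) (n - p)).hom]
        simp only [i, π, Category.assoc, homologyEf_d, Iso.inv_hom_id_assoc, Iso.inv_hom_id, Category.comp_id]
        exact (dNT U q).naturality (φ (n - p)).inv)
    obtain ⟨S, S', hSS, ⟨e⟩⟩ := hsub
    let Gp := G i π (iC_πC U I) hS n
    refine ⟨S, S', hSS, ⟨((Submodule.Quotient.equiv (Submodule.comap (Gp p).subtype (Gp (p + 1)))
      (Submodule.comap ((Gp p).map ε.toLinearMap).subtype ((Gp (p + 1)).map ε.toLinearMap))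
      (ε.submoduleMap (Gp p)) ?_).symm).trans e⟩⟩
    ext ⟨y, hy⟩
    constructor
    · rintro ⟨⟨x, hx⟩, hx1, hxy⟩
      exact ⟨x, hx1, congrArg Subtype.val hxy⟩
    · rintro ⟨x, hx1, hxy⟩
      exact ⟨⟨x, antitone_G i π (iC_πC U I) hS n (Nat.le_succ p) hx1⟩, hx1, Subtype.ext hxy⟩

end CechFiltLib
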